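import Groth.Agent.PurityLiftLib.Etale
import Groth.Agent.S0238

/-!
# Extension of a finite étale cover of the trace of a hypersurface to a neighbourhood
-/

set_option autoImplicit false
set_option linter.style.haveILetI false

noncomputable section

universe u

open CategoryTheory CategoryTheory.Limits AlgebraicGeometry TopologicalSpace Opposite
open scoped TensorProduct
open Pi1

namespace PurityLiftLib

theorem etale_ι_comp {A B : Type u} [CommRing A] [CommRing B] [Algebra A B] [Algebra.FinitePresentation A B]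
    (V : (Spec (CommRingCat.of B)).Opens) (hV : ∀ Q : PrimeSpectrum B, Q ∈ V → Algebra.IsEtaleAt A Q.asIdeal) :
    Etale (V.ι ≫ Spec.map (CommRingCat.ofHom (algebraMap A B))) := by
  have hb : ∀ x : V, ∃ b : B, x.1 ∈ PrimeSpectrum.basicOpen b ∧ ∀ Q : PrimeSpectrum B, Q ∈ PrimeSpectrum.basicOpen b → Q ∈ V :=
    fun x => by
      obtain ⟨_, ⟨b, rfl⟩, hxb, hb⟩ :=
        PrimeSpectrum.isTopologicalBasis_basic_opens.exists_subset_of_mem_open x.2 V.2
      exact ⟨b, hxb, fun Q hQ => hb hQ⟩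
  choose b hxb hbV using hb
  haveI : IsZariskiLocalAtSource @Etale.{u} :=
    HasRingHomProperty.instIsZariskiLocalAtSource (Q := RingHom.Etale)
  refine IsZariskiLocalAtSource.of_openCover (P := @Etale.{u})
    ((V : Scheme.{u}).openCoverOfIsOpenCover (fun x : V => V.ι ⁻¹ᵁ PrimeSpectrum.basicOpen (b x))
      (top_le_iff.1 fun x _ => Opens.mem_iSup.2 ⟨x, hxb x⟩)) fun x => ?_
  show Etale ((V.ι ⁻¹ᵁ PrimeSpectrum.basicOpen (b x)).ι ≫ V.ι ≫ Spec.map (CommRingCat.ofHom (algebraMap A B)))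
  let Bb := Localization.Away (b x)
  haveI : Algebra.Etale A Bb :=
    Algebra.basicOpen_subset_etaleLocus_iff_etale.1 fun Q hQ => hV Q (hbV x Q hQ)
  let e : Spec (CommRingCat.of Bb) ⟶ Spec (CommRingCat.of B) := Spec.map (CommRingCat.ofHom (algebraMap B Bb))
  haveI : IsOpenImmersion e := IsOpenImmersion.of_isLocalization (b x)
  let O := V.ι ⁻¹ᵁ PrimeSpectrum.basicOpen (b x)
  have hr : Set.range (O.ι ≫ V.ι) ⊆ Set.range e := by
    rintro _ ⟨z, rfl⟩
    exact (PrimeSpectrum.localization_away_comap_range Bb (b x)).ge z.2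
  let l := IsOpenImmersion.lift e (O.ι ≫ V.ι) hr
  have hl : l ≫ e = O.ι ≫ V.ι := IsOpenImmersion.lift_fac _ _ _
  haveI : IsOpenImmersion (l ≫ e) := by rw [hl]; infer_instance
  haveI : IsOpenImmersion l := IsOpenImmersion.of_comp l e
  haveI : Etale (e ≫ Spec.map (CommRingCat.ofHom (algebraMap A B))) := by
    rw [← Spec.map_comp, HasRingHomProperty.Spec_iff (P := @Etale)]
    show ((algebraMap B Bb).comp (algebraMap A B)).Etale
    rw [← IsScalarTower.algebraMap_eq A B Bb]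
    exact RingHom.etale_algebraMap.2 inferInstance
  rw [← Category.assoc, ← hl, Category.assoc]
  infer_instance

variable {A : Type u} [CommRing A] [IsNoetherianRing A] {f : A} {J 𝔞 : Ideal A}
  (hJ : J = Ideal.span ({f} : Set A)) (hnzd : f ∈ nonZeroDivisors A)
  [IsAdicComplete (Ideal.span ({f} : Set A)) A]
  (h₁ : Module.Finite A (LocCoh.H 𝔞 1 (A ⧸ Ideal.span ({f} : Set A))))
  (h₂ : Module.Finite A (LocCoh.H 𝔞 2 (A ⧸ Ideal.span ({f} : Set A))))

omit [IsNoetherianRing A] in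
theorem surjective_thickTrans (n : ℕ) :
    Surjective (CohB1.thickTrans (LocCoh.puncturedOpen A 𝔞).ι J n) := by
  haveI : Surjective (CohB1.specQuotTrans J n) := by
    refine ⟨fun P => ?_⟩
    refine ((range_comap_of_surjective _ _ (Ideal.Quotient.factor_surjective
      (Ideal.pow_le_pow_right (I := J) (Nat.le_succ (n + 1))))).ge ?_ : _)
    intro x hx
    obtain ⟨b, rfl⟩ := Ideal.Quotient.mk_surjective x
    have hb : b ∈ J ^ (n + 1) :=
      Ideal.Quotient.eq_zero_iff_mem.1 (show Ideal.Quotient.mk (J ^ (n + 1)) b = 0 from hx)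
    refine P.isPrime.mem_of_pow_mem 2 ?_
    rw [← map_pow, Ideal.Quotient.eq_zero_iff_mem.2]
    · exact zero_mem _
    · exact Ideal.pow_le_pow_right (show n + 1 + 1 ≤ (n + 1) * 2 by omega)
        (pow_mul J (n + 1) 2 ▸ Ideal.pow_mem_pow hb 2)
  exact MorphismProperty.of_isPullback (AlgzLib.isPullback_thickTrans _ J n).flip inferInstance

omit [IsNoetherianRing A] in
/-- Covers lift to all the thickenings. -/
theorem exists_cov (V₀ : FEt.Cat (CohB1.thick (LocCoh.puncturedOpen A 𝔞).ι J 0)) :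
    ∃ C : Cov J 𝔞, Nonempty (MorphismProperty.Over.mk ⊤ (C.y 0) (C.fet 0) ≅ V₀) := by
  let j := (LocCoh.puncturedOpen A 𝔞).ι
  have hs : ∀ n (V : FEt.Cat (CohB1.thick j J n)), ∃ V' : FEt.Cat (CohB1.thick j J (n + 1)),
      Nonempty ((FEt.restrict (CohB1.thickTrans j J n)).obj V' ≅ V) := fun n V => by
    haveI : IsClosedImmersion (CohB1.specQuotTrans J n) :=
      IsClosedImmersion.spec_of_surjective _
        (Ideal.Quotient.factor_surjective (Ideal.pow_le_pow_right (Nat.le_succ (n + 1))))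
    haveI : IsClosedImmersion (CohB1.thickTrans j J n) :=
      FComplLib.isClosedImmersion_of_isPullback (AlgzLib.isPullback_thickTrans _ J n)
    haveI := surjective_thickTrans (J := J) (𝔞 := 𝔞) n
    haveI := Groth.Agent.S0238.result (CohB1.thickTrans j J n)
    exact ⟨_, ⟨(FEt.restrict (CohB1.thickTrans j J n)).objObjPreimageIso V⟩⟩
  choose nx hnx using hs
  let V : ∀ n, FEt.Cat (CohB1.thick j J n) := fun n =>
    Nat.rec (motive := fun n => FEt.Cat (CohB1.thick j J n)) V₀ (fun n W => nx n W) n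
  let e : ∀ n, (FEt.restrict (CohB1.thickTrans j J n)).obj (V (n + 1)) ≅ V n := fun n => (hnx n (V n)).some
  refine ⟨⟨fun n => (V n).left, fun n => (V n).hom,
    fun n => (e n).inv.left ≫ pullback.fst (V (n + 1)).hom (CohB1.thickTrans j J n), fun n => ?_, fun n => (V n).prop⟩,
    ⟨MorphismProperty.Over.isoMk (Iso.refl _) (Category.id_comp _)⟩⟩
  exact IsPullback.of_iso_pullback
    ⟨(Category.assoc _ _ _).trans ((congrArg ((e n).inv.left ≫ ·) pullback.condition).trans
      ((Category.assoc _ _ _).symm.trans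
        (congrArg (· ≫ CohB1.thickTrans j J n) (MorphismProperty.Over.w (e n).inv))))⟩
    ((MorphismProperty.Over.forget _ _ _ ⋙ Over.forget _).mapIso (e n)).symm rfl
    (MorphismProperty.Over.w (e n).inv)

include hJ hnzd h₁ h₂

/-- The cover of the trace extends to a neighbourhood. -/
theorem exists_extension_nhd (C : Cov J 𝔞) :
    ∃ (U' : (Spec (CommRingCat.of A)).Opens) (_ : U' ≤ LocCoh.puncturedOpen A 𝔞)
      (v : CohB1.thick (LocCoh.puncturedOpen A 𝔞).ι J 0 ⟶ (U' : Scheme.{u}))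
      (_ : v ≫ U'.ι = CohB1.thickι (LocCoh.puncturedOpen A 𝔞).ι J 0 ≫ (LocCoh.puncturedOpen A 𝔞).ι)
      (E : Scheme.{u}) (q : E ⟶ (U' : Scheme.{u})) (i : C.Y 0 ⟶ E),
        FEt.prop q ∧ IsPullback i (C.y 0) q v := by
  obtain ⟨hfin, -, -, -⟩ := finite_and_levels C hJ hnzd h₁ h₂
  haveI : Algebra.FinitePresentation A (B C) := Algebra.FinitePresentation.of_finiteType.1 inferInstance
  let j := (LocCoh.puncturedOpen A 𝔞).ι
  let π : Spec (CommRingCat.of (B C)) ⟶ Spec (CommRingCat.of A) := Spec.map (CommRingCat.ofHom (algebraMap A (B C)))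
  haveI : IsFinite π := (IsFinite.SpecMap_iff _).2 (RingHom.finite_algebraMap.2 hfin)
  let Lc : Set (PrimeSpectrum (B C)) := Algebra.etaleLocus A (B C)
  have hZ : IsClosed (π '' Lcᶜ) := π.isClosedMap _ Algebra.isOpen_etaleLocus.isClosed_compl
  let U' : (Spec (CommRingCat.of A)).Opens := LocCoh.puncturedOpen A 𝔞 ⊓ ⟨(π '' Lcᶜ)ᶜ, hZ.isOpen_compl⟩
  have hpre : ∀ Q : PrimeSpectrum (B C), Q ∈ π ⁻¹ᵁ U' → Algebra.IsEtaleAt A Q.asIdeal := fun Q hQ => by
    by_contra hQ'
    exact hQ.2 ⟨Q, hQ', rfl⟩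
  let t := CohB1.thickToBase j J 0
  let ν : CohB1.thick j J 0 ⟶ Spec (CommRingCat.of A) := CohB1.thickι j J 0 ≫ j
  have hν : ν = t ≫ CohB1.specQuot J 0 := pullback.condition
  have hνU : Set.range ν ⊆ (U' : Set _) := by
    rintro _ ⟨x, rfl⟩
    refine ⟨(CohB1.thickι j J 0 x).2, ?_⟩
    rintro ⟨Q, hQ, hQx⟩
    have hf : f ∈ (ν x).asIdeal := by
      have h0 : J ^ (0 + 1) ≤ (ν x).asIdeal := by
        rw [hν]
        intro a ha
        show Ideal.Quotient.mk (J ^ (0 + 1)) a ∈ (t x).asIdeal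
        rw [Ideal.Quotient.eq_zero_iff_mem.2 ha]
        exact zero_mem _
      refine h0 ?_
      rw [zero_add, pow_one, hJ]
      exact Ideal.mem_span_singleton_self f
    obtain ⟨h, hh, hhx⟩ := Set.not_subset.1 (CohB1.thickι j J 0 x).2
    refine hQ (@isEtaleAt_of_mem A _ J 𝔞 C _ f hJ hnzd _ h₁ h₂ Q.asIdeal Q.isPrime ?_ h hh ?_)
    · rw [← hQx] at hf
      exact hf
    · intro hq
      have hq' : h ∈ (π Q).asIdeal := hq
      rw [hQx] at hq'
      exact hhx hq' 
  let v := IsOpenImmersion.lift U'.ι ν (by rw [Scheme.Opens.range_ι]; exact hνU)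
  have hv : v ≫ U'.ι = ν := IsOpenImmersion.lift_fac _ _ _
  obtain ⟨ho, sq⟩ := isPullback_wL C hJ hnzd h₁ h₂ 0
  have sq2 : IsPullback (Spec.map (CommRingCat.ofHom (Algebra.TensorProduct.includeRight (R := A)
      (A := A ⧸ J ^ (0 + 1)) (B := B C)).toRingHom)) (πL C 0) π (CohB1.specQuot J 0) :=
    (isPullback_SpecMap_of_isPushout _ _ _ _
      (CommRingCat.isPushout_tensorProduct A (A ⧸ J ^ (0 + 1)) (B C))).flip
  have big := sq.paste_horiz sq2
  rw [← hν] at big
  let u0 := wL C 0 ≫ Spec.map (CommRingCat.ofHom (Algebra.TensorProduct.includeRight (R := A)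
      (A := A ⧸ J ^ (0 + 1)) (B := B C)).toRingHom)
  have hu0 : Set.range u0 ⊆ Set.range (π ⁻¹ᵁ U').ι := by
    rw [Scheme.Opens.range_ι]
    rintro _ ⟨z, rfl⟩
    show π (u0 z) ∈ U'
    rw [← Scheme.Hom.comp_apply, big.w, Scheme.Hom.comp_apply]
    exact hνU ⟨_, rfl⟩
  let i := IsOpenImmersion.lift (π ⁻¹ᵁ U').ι u0 hu0
  have hi : i ≫ (π ⁻¹ᵁ U').ι = u0 := IsOpenImmersion.lift_fac _ _ _
  refine ⟨U', inf_le_left, v, hv, _, π ∣_ U', i, ⟨MorphismProperty.of_isPullback (isPullback_morphismRestrict π U').flip ‹_›, ?_⟩, ?_⟩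
  · haveI : Etale ((π ∣_ U') ≫ U'.ι) := by
      rw [morphismRestrict_ι]
      exact etale_ι_comp _ hpre
    exact Etale.of_comp (π ∣_ U') U'.ι
  · refine IsPullback.of_right ?_ ?_ (isPullback_morphismRestrict π U').flip
    · rw [hi, hv]; exact big
    · rw [← cancel_mono U'.ι, Category.assoc, morphismRestrict_ι, ← Category.assoc, hi, Category.assoc]
      exact big.w.trans ((congrArg (C.y 0 ≫ ·) hv.symm).trans (Category.assoc _ _ _).symm)

end PurityLiftLib
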