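import Groth.Agent.PurityLiftLib.LocFree
import Groth.Agent.KFlatLib.PerfectPull

/-!
# The formal module of functions on a system of covers is locally free
-/

set_option autoImplicit false
set_option linter.style.haveILetI false

noncomputable section

universe u

open CategoryTheory CategoryTheory.Limits AlgebraicGeometry TopologicalSpace Opposite

namespace PurityLiftLib

variable {A : Type u} [CommRing A]

/-- The direct image of a locally free module on a thickening is locally a free module modulo the ideal. -/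
theorem isFinLocFreeMod_push {X Z : Scheme.{u}} [X.Over (Spec (CommRingCat.of A))]
    [Z.Over (Spec (CommRingCat.of A))] (ι : Z ⟶ X) [IsClosedImmersion ι]
    (hw : ι ≫ (X ↘ Spec (CommRingCat.of A)) = Z ↘ Spec (CommRingCat.of A)) (J : Ideal A) (k : ℕ)
    (hzero : ∀ b ∈ J ^ k, Coh.toGlobal (Z ↘ Spec (CommRingCat.of A)) b = 0)
    (hker : ∀ W : X.affineOpens, ι.ker.ideal W ≤ (J ^ k).map (FormalLib.rhoA A W.1))
    {L : Z.Modules} (hL : FlatMod.IsFinLocFree L) :
    Formal2.IsFinLocFreeMod J k ((Scheme.Modules.pushforward ι).obj L) := by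
  intro x
  have key : ∀ (V : X.Opens) (W : Z.Opens) (r : ℕ), ι ⁻¹ᵁ V ≤ W →
      Nonempty (L.restrict W.ι ≅ FlatMod.freeMod W.toScheme r) →
      Nonempty (((Scheme.Modules.pushforward ι).obj L).restrict V.ι ≅
        (Formal.modPow J k (FlatMod.freeMod X r)).restrict V.ι) := by
    rintro V W r hVW ⟨a⟩
    haveI := CurvLib.isQCoh_freeMod X r
    obtain ⟨h, hi⟩ := PicAlgzLib.isIso_desc ι hw (J ^ k) hzero hker (FlatMod.freeMod X r)
      (KFlatLib.pullFreeIso ι r)
    let δ : Formal.modPow J k (FlatMod.freeMod X r) ≅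
        (Scheme.Modules.pushforward ι).obj (FlatMod.freeMod Z r) := @asIso _ _ _ _ _ hi
    obtain ⟨b⟩ := PicLiftLib.nonempty_restrict_push_iso ι (L' := FlatMod.freeMod Z r)
      (a ≪≫ (KFlatLib.pullFreeIso W.ι r).symm ≪≫ ((Scheme.Modules.restrictFunctorIsoPullback W.ι).app _).symm) V hVW
    exact ⟨b ≪≫ (Scheme.Modules.restrictFunctor V.ι).mapIso δ.symm⟩
  by_cases hx : x ∈ Set.range ι
  · obtain ⟨z, rfl⟩ := hx
    obtain ⟨W, r, hzW, hW⟩ := hL z
    obtain ⟨S, hS, hSW⟩ := ι.isClosedEmbedding.isInducing.isOpen_iff.1 W.2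
    exact ⟨⟨S, hS⟩, r, (Set.ext_iff.1 hSW z).2 hzW, key _ W r (fun y hy => (Set.ext_iff.1 hSW y).1 hy) hW⟩
  · refine ⟨⟨(Set.range ι)ᶜ, ι.isClosedEmbedding.isClosed_range.isOpen_compl⟩, 0, hx,
      key _ ⊥ 0 (fun w hw => absurd (Set.mem_range_self w) hw) ?_⟩
    have : ∀ M : (⊥ : Z.Opens).toScheme.Modules, IsZero M := fun M => by
      refine (IsZero.iff_id_eq_zero M).2 (Scheme.Modules.hom_ext _ _ fun O => ConcreteCategory.hom_ext _ _ fun m => ?_)
      exact ModGlueLib.eq_of_locally _ _ fun z _ => (z.2 : z.1 ∈ (⊥ : Z.Opens)).elim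
    exact ⟨(this _).iso (this _)⟩

open PurityLiftLib in
theorem isFinLocFreeMod_sysG [IsNoetherianRing A] {J 𝔞 : Ideal A} (C : Cov J 𝔞) (n : ℕ) :
    Formal2.IsFinLocFreeMod J (n + 1) ((sysG C).obj (op n)) := by
  let j := (LocCoh.puncturedOpen A 𝔞).ι
  let ι := CohB1.thickι j J n
  haveI : IsLocallyNoetherian (CohB1.thick j J n) :=
    haveI : IsLocallyNoetherian (Formal2AlgzLib.PU 𝔞) := inferInstance
    LocallyOfFiniteType.isLocallyNoetherian ι
  haveI : Flat (C.y n) := inferInstance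
  have h := isFinLocFreeMod_push (A := A) ι (PicLiftLib.ι_over J j n) J (n + 1)
    (fun b hb => PicLiftLib.toGlobal_eq_zero J j n hb) (PicLiftLib.ker_incl_le J j n)
    (isFinLocFree_push (C.y n))
  intro x
  obtain ⟨V, r, hx, ⟨e⟩⟩ := h x
  exact ⟨V, r, hx, ⟨(Scheme.Modules.restrictFunctor V.ι).mapIso
    ((Scheme.Modules.pushforwardComp (C.y n) ι).app (O C n)).symm ≪≫ e⟩⟩

end PurityLiftLib
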