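import Mathlib

/-!
# Lifting sections along a closed immersion after multiplying by a power
-/

set_option autoImplicit false
universe u

open CategoryTheory AlgebraicGeometry Opposite TopologicalSpace

namespace PurityLiftLib

theorem exists_lift_pow {Y' Y : Scheme.{u}} [CompactSpace Y] [QuasiSeparatedSpace Y] [CompactSpace Y']
    [QuasiSeparatedSpace Y'] (s : Y' ⟶ Y) [IsClosedImmersion s] (a : Γ(Y, ⊤))
    (ha : IsAffineOpen (Y.basicOpen a)) (x : Γ(Y', ⊤)) :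
    ∃ (k : ℕ) (y : Γ(Y, ⊤)), s.appTop y = (s.appTop a) ^ k * x := by
  let D := Y.basicOpen a
  let a' := s.appTop a
  have hD : Y'.basicOpen a' = s ⁻¹ᵁ D := (s.preimage_basicOpen a).symm
  let x' : Γ(Y', s ⁻¹ᵁ D) := Y'.presheaf.map (homOfLE (le_top : s ⁻¹ᵁ D ≤ ⊤)).op x
  obtain ⟨z, hz⟩ := s.app_surjective D ha x'
  haveI := isLocalization_basicOpen_of_qcqs (U := (⊤ : Y.Opens)) CompactSpace.isCompact_univ
    isQuasiSeparated_univ a
  obtain ⟨⟨y, _, k, rfl⟩, hy⟩ := IsLocalization.surj (Submonoid.powers a) z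
  have hnat : ∀ w : Γ(Y, ⊤), s.app D (Y.presheaf.map (homOfLE (le_top : D ≤ ⊤)).op w) =
      Y'.presheaf.map (homOfLE (le_top : s ⁻¹ᵁ D ≤ ⊤)).op (s.appTop w) := fun w =>
    ConcreteCategory.congr_hom (s.naturality (homOfLE (le_top : D ≤ ⊤)).op) w
  have hy' : z * Y.presheaf.map (homOfLE (le_top : D ≤ ⊤)).op (a ^ k) =
      Y.presheaf.map (homOfLE (le_top : D ≤ ⊤)).op y := hy
  have h2 : Y'.presheaf.map (homOfLE (le_top : s ⁻¹ᵁ D ≤ ⊤)).op (s.appTop y) =
      Y'.presheaf.map (homOfLE (le_top : s ⁻¹ᵁ D ≤ ⊤)).op (a' ^ k * x) := by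
    rw [← hnat, ← hy', map_mul, hz, hnat, map_mul, map_pow, map_pow, mul_comm]
  have h3 : Y'.presheaf.map (homOfLE (le_top : Y'.basicOpen a' ≤ ⊤)).op (s.appTop y - a' ^ k * x) = 0 := by
    have e : Y'.basicOpen a' ≤ s ⁻¹ᵁ D := hD.le
    have := congrArg (Y'.presheaf.map (homOfLE e).op) (sub_eq_zero.2 h2)
    rw [← map_sub, map_zero, ← CommRingCat.comp_apply, ← Functor.map_comp] at this
    exact this
  obtain ⟨l, hl⟩ := exists_of_res_zero_of_qcqs_of_top (s := a') h3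
  refine ⟨l + k, a ^ l * y, ?_⟩
  rw [map_mul, map_pow, pow_add, mul_assoc]
  rw [mul_sub, sub_eq_zero] at hl
  exact hl

theorem exists_pow_mul_res_eq_zero {Y : Scheme.{u}} [CompactSpace Y] [QuasiSeparatedSpace Y]
    (a x : Γ(Y, ⊤)) {D : Y.Opens} (hD : Y.basicOpen a ≤ D)
    (h : Y.presheaf.map (homOfLE (le_top : D ≤ ⊤)).op x = 0) : ∃ l : ℕ, a ^ l * x = 0 := by
  refine exists_of_res_zero_of_qcqs_of_top (s := a) ?_
  have := congrArg (Y.presheaf.map (homOfLE hD).op) h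
  rw [map_zero, ← CommRingCat.comp_apply, ← Functor.map_comp] at this
  exact this

end PurityLiftLib
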