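import Groth.Agent.PurityLiftLib.Free
import Groth.Agent.PurityLiftLib.Sections

/-!
# The algebra of compatible functions on a system of covers
-/

set_option autoImplicit false
set_option linter.style.haveILetI false

noncomputable section

universe u

open CategoryTheory CategoryTheory.Limits AlgebraicGeometry TopologicalSpace Opposite
open KoszLcLib (scal)

namespace PurityLiftLib

open Formal2AlgzLib (PU Lim SG down)

variable {A : Type u} [CommRing A] {J 𝔞 : Ideal A} (C : Cov J 𝔞)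

/-- Global functions on a level. -/
abbrev SY (n : ℕ) : Type u := Γ(C.Y n, ⊤)

/-- The scalar of the base on a level. -/
abbrev aY (n : ℕ) : A →+* SY C n :=
  (C.Y n ↘ Spec (CommRingCat.of A)).appTop.hom.comp (Scheme.ΓSpecIso (CommRingCat.of A)).inv.hom

theorem aY_eq_toGlobal (n : ℕ) (a : A) : aY C n a = Coh.toGlobal (C.Y n ↘ Spec (CommRingCat.of A)) a := rfl

theorem g_scal (n : ℕ) (a : A) : (C.g n).appTop (scal 𝔞 a) = aY C n a := by
  show ((PU 𝔞 ↘ Spec (CommRingCat.of A)).appTop ≫ (C.g n).appTop) ((Scheme.ΓSpecIso (CommRingCat.of A)).inv a) = _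
  rw [← Scheme.Hom.comp_appTop, g_over C n]
  rfl

theorem s_aY (n : ℕ) (a : A) : (C.s n).appTop (aY C (n + 1) a) = aY C n a := by
  show ((C.Y (n + 1) ↘ Spec (CommRingCat.of A)).appTop ≫ (C.s n).appTop) ((Scheme.ΓSpecIso (CommRingCat.of A)).inv a) = _
  rw [← Scheme.Hom.comp_appTop, s_over C n]
  rfl

/-- Compatible functions. -/
def B : Subring (∀ n, SY C n) where
  carrier := {b | ∀ n, (C.s n).appTop (b (n + 1)) = b n}
  zero_mem' := fun n => map_zero _
  one_mem' := fun n => map_one _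
  add_mem' := fun {x y} hx hy n => by
    show (C.s n).appTop (x (n + 1) + y (n + 1)) = x n + y n
    rw [map_add, hx n, hy n]
  mul_mem' := fun {x y} hx hy n => by
    show (C.s n).appTop (x (n + 1) * y (n + 1)) = x n * y n
    rw [map_mul, hx n, hy n]
  neg_mem' := fun {x} hx n => by
    show (C.s n).appTop (-(x (n + 1))) = -(x n)
    rw [map_neg, hx n]

instance algebraB : Algebra A (B C) :=
  ((Pi.ringHom (aY C)).codRestrict (B C) fun a n => s_aY C n a).toAlgebra

/-- The value at a level. -/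
def prj (n : ℕ) : B C →+* SY C n := (Pi.evalRingHom (fun n => SY C n) n).comp (B C).subtype

theorem s_prj (n : ℕ) (b : B C) : (C.s n).appTop (prj C (n + 1) b) = prj C n b := b.2 n

theorem prj_algebraMap (n : ℕ) (a : A) : prj C n (algebraMap A (B C) a) = aY C n a := rfl

theorem prj_smul (n : ℕ) (a : A) (b : B C) : prj C n (a • b) = aY C n a * prj C n b := by
  rw [Algebra.smul_def, map_mul, prj_algebraMap]

/-- A function on a level, as a section of the formal module. -/
def toS (n : ℕ) (x : SY C n) : SG (sysG C) n := x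

/-- A section of the formal module, as a function. -/
def ofS (n : ℕ) (x : SG (sysG C) n) : SY C n := x

theorem ofS_smul (n : ℕ) (a : A) (x : SG (sysG C) n) : ofS C n (a • x) = aY C n a * ofS C n x := by
  rw [← g_scal]
  rfl

theorem ofS_down (n : ℕ) (x : SG (sysG C) (n + 1)) :
    ofS C n (down (sysG C) (Nat.le_succ n) x) = (C.s n).appTop (ofS C (n + 1) x) := by
  have hT : (sysG C).map (homOfLE (Nat.le_succ n)).op = trP C n :=
    Functor.ofOpSequence_map_homOfLE_succ _ n
  show ((sysG C).map (homOfLE (Nat.le_succ n)).op).app ⊤ x = _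
  rw [hT]
  refine (trG_app (C.s n) (C.g (n + 1)) (C.g n) (g_trans C n) ⊤ x).trans ?_
  show (C.s n).appLE ⊤ ⊤ le_rfl (ofS C (n + 1) x) = _
  rw [← Scheme.Hom.map_appLE (C.s n) (U := ⊤) (U' := ⊤) (V := ⊤) le_rfl (𝟙 _)]
  rw [(C.Y (n + 1)).presheaf.map_id, Category.id_comp]
  exact ConcreteCategory.congr_hom (Scheme.Hom.app_eq_appLE (C.s n) (U := ⊤)).symm _

/-- Compatible functions are compatible sections. -/
def bLim : B C ≃ₗ[A] Lim (sysG C) where
  toFun b := ⟨fun n => toS C n (prj C n b), fun n => (ofS_down C n _).trans (s_prj C n b)⟩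
  invFun y := ⟨fun n => ofS C n (y.1 n), fun n => (ofS_down C n _).symm.trans (congrArg (ofS C n) (y.2 n))⟩
  map_add' _ _ := rfl
  map_smul' a b := Subtype.ext (funext fun n => (prj_smul C n a b).trans (ofS_smul C n a (toS C n (prj C n b))).symm)
  left_inv _ := rfl
  right_inv _ := rfl

theorem bLim_val (n : ℕ) (b : B C) : ofS C n ((bLim C b).1 n) = prj C n b := rfl

variable [IsNoetherianRing A]

theorem isAffineOpen_aY (n : ℕ) {h : A} (hh : h ∈ 𝔞) : IsAffineOpen ((C.Y n).basicOpen (aY C n h)) := by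
  rw [← g_scal, ← Scheme.Hom.preimage_basicOpen_top]
  exact (KoszLcLib.isAffineOpen_scal 𝔞 hh).preimage (C.g n)

theorem exists_lift_levels {h : A} (hh : h ∈ 𝔞) (n d : ℕ) (x : SY C n) :
    ∃ (k : ℕ) (y : SG (sysG C) (n + d)),
      ofS C n (down (sysG C) (Nat.le_add_right n d) y) = aY C n h ^ k * x := by
  induction d with
  | zero =>
    refine ⟨0, toS C n x, ?_⟩
    rw [Formal2AlgzLib.down_self, pow_zero, one_mul]
    rfl
  | succ d ih =>
    obtain ⟨k, y, hy⟩ := ih
    obtain ⟨l, z, hz⟩ := exists_lift_pow (C.s (n + d)) (aY C (n + d + 1) h) (isAffineOpen_aY C _ hh) (ofS C (n + d) y)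
    refine ⟨l + k, toS C (n + d + 1) z, ?_⟩
    have e : down (sysG C) (Nat.le_succ (n + d)) (toS C (n + d + 1) z) = h ^ l • y := by
      refine ((ofS_down C (n + d) (toS C _ z)).trans ?_ : ofS C (n + d) _ = ofS C (n + d) (h ^ l • y))
      rw [ofS_smul, map_pow, ← s_aY]
      exact hz
    refine (congrArg (ofS C n) ((Formal2AlgzLib.down_down (Nat.le_add_right n d) (Nat.le_succ (n + d)) _).symm)).trans ?_
    rw [e, map_smul, ofS_smul, hy, map_pow, pow_add, mul_assoc]

variable {f : A} (hJ : J = Ideal.span ({f} : Set A)) (hnzd : f ∈ nonZeroDivisors A)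
  [IsAdicComplete (Ideal.span ({f} : Set A)) A]
  (h₁ : Module.Finite A (LocCoh.H 𝔞 1 (A ⧸ Ideal.span ({f} : Set A))))
  (h₂ : Module.Finite A (LocCoh.H 𝔞 2 (A ⧸ Ideal.span ({f} : Set A))))

include hJ hnzd h₁ h₂

/-- Compatible functions form a finite algebra, and identify the levels over the affine pieces. -/
theorem finite_and_levels : Module.Finite A (B C) ∧
    (∀ h ∈ 𝔞, ∀ (n : ℕ) (x : SY C n), ∃ (k : ℕ) (b : B C), prj C n b = aY C n h ^ k * x) ∧
    (∀ (n : ℕ) (b : B C), prj C n b = 0 → ∃ b' : B C, f ^ (n + 1) • b' = b) ∧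
    ∀ b : B C, f • b = 0 → b = 0 := by
  subst hJ
  have hG := isCohFormal_sysG C
  have hfree := isFinLocFreeMod_sysG C
  have hk0 : Formal.KilledBy (Ideal.span ({f} : Set A)) (Formal2AlgzLib.Gn (sysG C) 0) :=
    fun a ha => hG.2.1 0 a (by rwa [zero_add, pow_one])
  haveI := Formal2AlgzLib.finite_sections (hG.1 0) hk0 (hfree 0) h₁ h₂
  haveI := Formal2AlgzLib.finite_HH_one (hG.1 0) hk0 (hfree 0) h₁ h₂
  haveI := Formal2AlgzLib.finite_Lim hG hfree hnzd
  obtain ⟨n₀, hst⟩ := Formal2AlgzLib.exists_threshold hG hfree hnzd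
  refine ⟨Module.Finite.equiv (bLim C).symm, fun h hh n x => ?_, fun n b hb => ?_, fun b hb => ?_⟩
  · obtain ⟨k, y, hy⟩ := exists_lift_levels C hh n ((n₀ + n) + (n + 1)) x
    obtain ⟨z, hz⟩ := Formal2AlgzLib.exists_lim_of_stable hst n (n + ((n₀ + n) + (n + 1))) (Nat.le_add_left _ _) y
    refine ⟨k, (bLim C).symm z, ?_⟩
    rw [← hy, ← bLim_val, LinearEquiv.apply_symm_apply, hz]
  · obtain ⟨z, hz⟩ := Formal2AlgzLib.proj_eq_zero_imp hG hfree hnzd n (bLim C b) hb
    exact ⟨(bLim C).symm z, by rw [← map_smul, hz, LinearEquiv.symm_apply_apply]⟩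
  · refine (bLim C).injective (Subtype.ext (funext fun n => Formal2AlgzLib.jmap_injective hG hfree hnzd n ?_))
    rw [map_zero]
    show Formal2AlgzLib.secL (Formal2AlgzLib.jmap hG n) ((bLim C b).1 n) =
      Formal2AlgzLib.secL (Formal2AlgzLib.jmap hG n) 0
    rw [map_zero, ← (bLim C b).2 n]
    show Formal2AlgzLib.secL (Formal2AlgzLib.jmap hG n)
      (Formal2AlgzLib.secL (Formal2AlgzLib.tr (sysG C) n) ((bLim C b).1 (n + 1))) = 0
    rw [← Formal2AlgzLib.secL_comp, Formal2AlgzLib.tr_jmap hG n, Formal2AlgzLib.secL_smulMod]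
    exact congrArg (fun y : Lim (sysG C) => y.1 (n + 1))
      ((map_smul (bLim C) f b).symm.trans ((congrArg (bLim C) hb).trans (map_zero _)))

end PurityLiftLib
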