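import Groth.Agent.PicLiftLib.Extension
import Groth.Agent.AlgzLib.Finite
import Groth.Prelude.Def_FEt

/-!
# A system of finite étale covers of the thickenings of a hypersurface on a punctured spectrum
-/

set_option autoImplicit false
set_option linter.style.haveILetI false
set_option linter.unusedSectionVars false

noncomputable section

universe u

open CategoryTheory CategoryTheory.Limits AlgebraicGeometry TopologicalSpace Opposite
open KFlatLib (pb)
open FormalLib (rhoA)
open Pi1

namespace PurityLiftLib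

open Formal2AlgzLib (PU)

section Gen

variable {Y Y' X : Scheme.{u}} (s : Y ⟶ Y') (g' : Y' ⟶ X) (g : Y ⟶ X) (hg : g = s ≫ g')

/-- Restriction of functions. -/
def resG : Coh.structureModule Y' ⟶ (Scheme.Modules.pushforward s).obj (Coh.structureModule Y) :=
  (Scheme.Modules.pullbackPushforwardAdjunction s).unit.app _ ≫
    (Scheme.Modules.pushforward s).map (KFlatLib.pullUnitIso s).hom

/-- Restriction of functions, on a common target. -/
def trG : (Scheme.Modules.pushforward g').obj (Coh.structureModule Y') ⟶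
    (Scheme.Modules.pushforward g).obj (Coh.structureModule Y) :=
  (Scheme.Modules.pushforward g').map (resG s) ≫
    (Scheme.Modules.pushforwardComp s g').hom.app (Coh.structureModule Y) ≫
      (Scheme.Modules.pushforwardCongr hg.symm).hom.app (Coh.structureModule Y)

theorem trG_app (U : X.Opens) (r : Γ(Y', g' ⁻¹ᵁ U)) :
    (trG s g' g hg).app U r = s.appLE (g' ⁻¹ᵁ U) (g ⁻¹ᵁ U) (by rw [hg]; rfl) r := by
  have h : resG s = SheafOfModules.unitToPushforwardObjUnit s.toRingCatSheafHom :=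
    ((Scheme.Modules.pullbackPushforwardAdjunction s).homEquiv_unit _ _ _).symm.trans
      (((Scheme.Modules.pullbackPushforwardAdjunction s).homEquiv _ _).apply_symm_apply _)
  have h1 : (resG s).app (g' ⁻¹ᵁ U) r = s.app (g' ⁻¹ᵁ U) r :=
    congrArg (fun t : Coh.structureModule Y' ⟶ (Scheme.Modules.pushforward s).obj (Coh.structureModule Y) =>
      t.app (g' ⁻¹ᵁ U) r) h
  refine Eq.trans ?_ (congrArg (fun z => Y.presheaf.map (homOfLE (by rw [hg]; rfl)).op z) h1)
  rfl

end Gen

variable {A : Type u} [CommRing A] (J : Ideal A) (𝔞 : Ideal A)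

/-- Finite étale covers of all the thickenings, compatible with restriction. -/
structure Cov where
  /-- the covers -/
  Y : ℕ → Scheme.{u}
  /-- their structure maps -/
  y : (n : ℕ) → (Y n ⟶ CohB1.thick (LocCoh.puncturedOpen A 𝔞).ι J n)
  /-- the transition maps -/
  s : (n : ℕ) → (Y n ⟶ Y (n + 1))
  sq : ∀ n, IsPullback (s n) (y n) (y (n + 1)) (CohB1.thickTrans (LocCoh.puncturedOpen A 𝔞).ι J n)
  fet : ∀ n, FEt.prop (y n)

variable {J 𝔞} (C : Cov J 𝔞)

/-- The map to the base modulo a power. -/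
abbrev Cov.p (n : ℕ) : C.Y n ⟶ Spec (CommRingCat.of (A ⧸ J ^ (n + 1))) :=
  C.y n ≫ CohB1.thickToBase (LocCoh.puncturedOpen A 𝔞).ι J n

/-- The map to the punctured spectrum. -/
abbrev Cov.g (n : ℕ) : C.Y n ⟶ PU 𝔞 := C.y n ≫ CohB1.thickι (LocCoh.puncturedOpen A 𝔞).ι J n

instance overA (n : ℕ) : (C.Y n).Over (Spec (CommRingCat.of A)) := ⟨C.p n ≫ CohB1.specQuot J n⟩

instance isFinite_y (n : ℕ) : IsFinite (C.y n) := (C.fet n).1
instance etale_y (n : ℕ) : Etale (C.y n) := (C.fet n).2
instance isFinite_g (n : ℕ) : IsFinite (C.g n) :=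
  inferInstanceAs (IsFinite (C.y n ≫ CohB1.thickι (LocCoh.puncturedOpen A 𝔞).ι J n))

theorem g_over (n : ℕ) : C.g n ≫ (PU 𝔞 ↘ Spec (CommRingCat.of A)) = C.Y n ↘ Spec (CommRingCat.of A) :=
  (Category.assoc _ _ _).trans ((congrArg (C.y n ≫ ·) (show CohB1.thickι (LocCoh.puncturedOpen A 𝔞).ι J n ≫
    (LocCoh.puncturedOpen A 𝔞).ι = CohB1.thickToBase (LocCoh.puncturedOpen A 𝔞).ι J n ≫ CohB1.specQuot J n from
    pullback.condition)).trans (Category.assoc _ _ _).symm)

theorem g_trans (n : ℕ) : C.g n = C.s n ≫ C.g (n + 1) :=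
  (((C.sq n).w_assoc (CohB1.thickι _ J (n + 1))).trans
    (congrArg (C.y n ≫ ·) (PicLiftLib.trans_ι J (LocCoh.puncturedOpen A 𝔞).ι n))).symm

theorem cart (n : ℕ) : IsPullback (C.s n) (C.p n) (C.p (n + 1)) (CohB1.specQuotTrans J n) :=
  (C.sq n).paste_vert (AlgzLib.isPullback_thickTrans _ J n)

instance isClosedImmersion_s (n : ℕ) : IsClosedImmersion (C.s n) := by
  have : IsClosedImmersion (CohB1.specQuotTrans J n) :=
    IsClosedImmersion.spec_of_surjective _ (Ideal.Quotient.factor_surjective (Ideal.pow_le_pow_right (I := J) (Nat.le_succ (n + 1))))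
  exact FComplLib.isClosedImmersion_of_isPullback (cart C n)

theorem s_over (n : ℕ) : C.s n ≫ (C.Y (n + 1) ↘ Spec (CommRingCat.of A)) = C.Y n ↘ Spec (CommRingCat.of A) := by
  show C.s n ≫ C.p (n + 1) ≫ CohB1.specQuot J (n + 1) = C.p n ≫ CohB1.specQuot J n
  rw [(cart C n).w_assoc, CohB1.specQuotTrans_specQuot]

theorem toGlobal_eq (n : ℕ) (b : A) : Coh.toGlobal (C.Y n ↘ Spec (CommRingCat.of A)) b =
    (C.p n).appTop ((Scheme.ΓSpecIso (CommRingCat.of (A ⧸ J ^ (n + 1)))).inv (Ideal.Quotient.mk (J ^ (n + 1)) b)) := by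
  show (C.p n ≫ CohB1.specQuot J n).appTop ((Scheme.ΓSpecIso (CommRingCat.of A)).inv b) = _
  rw [Scheme.Hom.comp_appTop]
  refine congrArg (C.p n).appTop ?_
  exact (ConcreteCategory.congr_hom (Scheme.ΓSpecIso_inv_naturality
    (CommRingCat.ofHom (Ideal.Quotient.mk (J ^ (n + 1))))) b).symm

theorem toGlobal_eq_zero (n : ℕ) {b : A} (hb : b ∈ J ^ (n + 1)) :
    Coh.toGlobal (C.Y n ↘ Spec (CommRingCat.of A)) b = 0 := by
  rw [toGlobal_eq, Ideal.Quotient.eq_zero_iff_mem.2 hb, map_zero, map_zero]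
  rfl

theorem ker_s_le (n : ℕ) (W : (C.Y (n + 1)).affineOpens) :
    (C.s n).ker.ideal W ≤ (J ^ (n + 1)).map (rhoA A W.1) := by
  have : IsClosedImmersion (CohB1.specQuotTrans J n) :=
    IsClosedImmersion.spec_of_surjective _ (Ideal.Quotient.factor_surjective (Ideal.pow_le_pow_right (I := J) (Nat.le_succ (n + 1))))
  obtain ⟨-, hk, -⟩ := FComplLib.chart (cart C n) ⟨⊤, isAffineOpen_top _⟩ W le_top
  rw [Scheme.Hom.ker_apply, hk, Ideal.map_le_iff_le_comap]
  intro x hx
  rw [Scheme.Hom.ker_apply, RingHom.mem_ker] at hx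
  obtain ⟨y, rfl⟩ := (ConcreteCategory.bijective_of_isIso
    (Scheme.ΓSpecIso (CommRingCat.of (A ⧸ J ^ (n + 1 + 1)))).inv).2 x
  obtain ⟨b, rfl⟩ := Ideal.Quotient.mk_surjective y
  have hn := ConcreteCategory.congr_hom (Scheme.ΓSpecIso_inv_naturality
    (CommRingCat.ofHom (Ideal.Quotient.factor (Ideal.pow_le_pow_right (I := J) (Nat.le_succ (n + 1))))))
    (Ideal.Quotient.mk (J ^ (n + 1 + 1)) b)
  have h0 : Ideal.Quotient.mk (J ^ (n + 1)) b = 0 := by
    refine (ConcreteCategory.bijective_of_isIso (Scheme.ΓSpecIso (CommRingCat.of (A ⧸ J ^ (n + 1)))).inv).1 ?_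
    exact (hn.trans hx).trans (map_zero _).symm
  rw [Ideal.mem_comap]
  refine Eq.mpr ?_ (Ideal.mem_map_of_mem (rhoA A W.1) (Ideal.Quotient.eq_zero_iff_mem.1 h0))
  refine congrArg (fun v => v ∈ _) ?_
  show (C.p (n + 1)).appLE ⊤ W.1 le_top _ = (C.Y (n + 1)).presheaf.map (homOfLE le_top).op
    (Coh.toGlobal (C.Y (n + 1) ↘ Spec (CommRingCat.of A)) b)
  rw [toGlobal_eq]
  rfl

/-- The structure sheaf of a level. -/
abbrev O (n : ℕ) : (C.Y n).Modules := Coh.structureModule (C.Y n)

/-- Restriction of functions to the level below. -/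
abbrev res (n : ℕ) : O C (n + 1) ⟶ (Scheme.Modules.pushforward (C.s n)).obj (O C n) := resG (C.s n)

/-- The transition of the direct images. -/
abbrev trP (n : ℕ) : (Scheme.Modules.pushforward (C.g (n + 1))).obj (O C (n + 1)) ⟶
    (Scheme.Modules.pushforward (C.g n)).obj (O C n) := trG (C.s n) (C.g (n + 1)) (C.g n) (g_trans C n)

/-- The formal module of functions on the covers. -/
def sysG : ℕᵒᵖ ⥤ (PU 𝔞).Modules :=
  Functor.ofOpSequence (X := fun n => (Scheme.Modules.pushforward (C.g n)).obj (O C n)) (trP C)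

variable [IsNoetherianRing A]

instance isNoetherian_Y (n : ℕ) : AlgebraicGeometry.IsNoetherian (C.Y n) := by
  haveI : IsLocallyNoetherian (PU 𝔞) := LocallyOfFiniteType.isLocallyNoetherian (LocCoh.puncturedOpen A 𝔞).ι
  haveI : CompactSpace (PU 𝔞) :=
    isCompact_iff_compactSpace.mp (TopologicalSpace.NoetherianSpace.isCompact _)
  haveI : IsLocallyNoetherian (C.Y n) := LocallyOfFiniteType.isLocallyNoetherian (C.g n)
  haveI : CompactSpace (C.Y n) := QuasiCompact.compactSpace_of_compactSpace (C.g n)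
  exact {}

instance isNoetherian_PU : AlgebraicGeometry.IsNoetherian (PU 𝔞) :=
  haveI : IsLocallyNoetherian (PU 𝔞) := LocallyOfFiniteType.isLocallyNoetherian (LocCoh.puncturedOpen A 𝔞).ι
  haveI : CompactSpace (PU 𝔞) := isCompact_iff_compactSpace.mp (TopologicalSpace.NoetherianSpace.isCompact _)
  {}

theorem isCohFormal_sysG : Formal.IsCohFormal J (sysG C) := by
  have hcoh : ∀ k, Coh.IsCoh (O C k) := fun k =>
    CurvLib.isCoh_of_isInvertible (AlgzLib.isInvertible_structureModule _)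
  refine ⟨fun n => QCohLib.isCoh_push_finite (C.g n) _ (hcoh n), fun n => ?_, fun n => ?_⟩
  · exact FormalCohLib.killedBy_push (C.g n) (g_over C n)
      (fun a ha => GrSysLib.smulMod_eq_zero (J ^ (n + 1)) (fun _ hb => toGlobal_eq_zero C n hb) _ ha)
  · haveI : Coh.IsQCoh (O C (n + 1)) := (hcoh (n + 1)).1
    let N := (Scheme.Modules.pushforward (C.g (n + 1))).obj (O C (n + 1))
    let t := trP C n
    let iso : (Scheme.Modules.pushforward (C.g (n + 1))).obj ((Scheme.Modules.pushforward (C.s n)).obj (O C n)) ≅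
        (Scheme.Modules.pushforward (C.g n)).obj (O C n) :=
      (Scheme.Modules.pushforwardComp (C.s n) (C.g (n + 1))).app (O C n) ≪≫
        (Scheme.Modules.pushforwardCongr (g_trans C n).symm).app (O C n)
    obtain ⟨h1, h2⟩ := PicAlgzLib.isIso_desc (C.s n) (s_over C n) (J ^ (n + 1))
      (fun b hb => toGlobal_eq_zero C n hb) (ker_s_le C n) (O C (n + 1)) (KFlatLib.pullUnitIso (C.s n))
    haveI := h2
    let d : Formal.modPow J (n + 1) (O C (n + 1)) ⟶ (Scheme.Modules.pushforward (C.s n)).obj (O C n) :=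
      cokernel.desc _ (res C n) h1
    haveI : IsIso d := h2
    let c := (FormalCohLib.cmp (J := J) (C.g (n + 1)) (g_over C (n + 1)) (O C (n + 1))).app (op n)
    have : IsIso (FormalCohLib.cmp (J := J) (C.g (n + 1)) (g_over C (n + 1)) (O C (n + 1))) :=
      FormalCohLib.isIso_cmp_of_isAffineHom _ _ (hcoh (n + 1))
    have hπ : Formal.modPowπ J (n + 1) N ≫ c ≫ (Scheme.Modules.pushforward (C.g (n + 1))).map d ≫ iso.hom = t := by
      refine (Category.assoc _ _ _).symm.trans ((congrArg (· ≫ _ ≫ iso.hom)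
        (FormalCohLib.π_cmp (C.g (n + 1)) (g_over C (n + 1)) (O C (n + 1)) n)).trans ?_)
      refine (Category.assoc _ _ _).symm.trans ?_
      refine congrArg (· ≫ iso.hom) ?_
      refine ((Scheme.Modules.pushforward (C.g (n + 1))).map_comp _ _).symm.trans
        (congrArg (Scheme.Modules.pushforward (C.g (n + 1))).map ?_)
      exact cokernel.π_desc _ _ _
    have hT : (sysG C).map (homOfLE (Nat.le_succ n)).op = t :=
      Functor.ofOpSequence_map_homOfLE_succ _ n
    have h0 : Formal.smulFamily (J ^ (n + 1)) N ≫ t = 0 := by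
      rw [← hπ, ← Category.assoc]
      refine (congrArg (· ≫ _) (cokernel.condition (Formal.smulFamily (J ^ (n + 1)) N))).trans zero_comp
    have e1 : cokernel.desc _ t h0 = c ≫ (Scheme.Modules.pushforward (C.g (n + 1))).map d ≫ iso.hom := by
      apply coequalizer.hom_ext
      exact (cokernel.π_desc _ _ _).trans hπ.symm
    have hc : IsIso c := inferInstance
    have hd : IsIso ((Scheme.Modules.pushforward (C.g (n + 1))).map d) := inferInstance
    have h3 : IsIso (cokernel.desc _ t h0) := by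
      rw [e1]
      exact @IsIso.comp_isIso _ _ _ _ _ c _ hc (@IsIso.comp_isIso _ _ _ _ _ _ iso.hom hd inferInstance)
    have key : ∀ t', t' = t → ∃ h : Formal.smulFamily (J ^ (n + 1)) N ≫ t' = 0, IsIso (cokernel.desc _ t' h) := by
      rintro _ rfl
      exact ⟨h0, h3⟩
    exact key _ hT

end PurityLiftLib
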