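import Groth.Agent.PurityLiftLib.Level
import Groth.Agent.MiscFlat6.InfNbhd
import Groth.Agent.WeilResLib.FlatUnramified

/-!
# The algebraization is étale along the hypersurface
-/

set_option autoImplicit false
set_option linter.style.haveILetI false

noncomputable section

universe u

open CategoryTheory CategoryTheory.Limits AlgebraicGeometry TopologicalSpace Opposite
open scoped TensorProduct

attribute [local instance] Algebra.TensorProduct.rightAlgebra

namespace PurityLiftLib

variable {A : Type u} [CommRing A] {J 𝔞 : Ideal A} (C : Cov J 𝔞)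
  [IsNoetherianRing A] {f : A} (hJ : J = Ideal.span ({f} : Set A)) (hnzd : f ∈ nonZeroDivisors A)
  [IsAdicComplete (Ideal.span ({f} : Set A)) A]
  (h₁ : Module.Finite A (LocCoh.H 𝔞 1 (A ⧸ Ideal.span ({f} : Set A))))
  (h₂ : Module.Finite A (LocCoh.H 𝔞 2 (A ⧸ Ideal.span ({f} : Set A))))

include hJ hnzd h₁ h₂

set_option maxHeartbeats 2000000 in
set_option synthInstance.maxHeartbeats 400000 in
theorem isEtaleAt_of_mem (Q : Ideal (B C)) [Q.IsPrime] (hfQ : algebraMap A (B C) f ∈ Q) {h : A} (hh : h ∈ 𝔞)
    (hhQ : algebraMap A (B C) h ∉ Q) : Algebra.IsEtaleAt A Q := by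
  obtain ⟨hfin, -, -, -⟩ := finite_and_levels C hJ hnzd h₁ h₂
  haveI : IsNoetherianRing (B C) := Algebra.FiniteType.isNoetherianRing A (B C)
  let c := algebraMap A (B C) h
  let Bh := Localization.Away c
  haveI : Algebra.FiniteType (B C) Bh := IsLocalization.finiteType_of_monoid_fg (Submonoid.powers c) Bh
  haveI : Algebra.FiniteType A Bh := Algebra.FiniteType.trans (S := B C) inferInstance ‹_›
  haveI : IsNoetherianRing Bh := Algebra.FiniteType.isNoetherianRing A Bh
  let Q' : Ideal Bh := Q.map (algebraMap (B C) Bh)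
  have hdis : Disjoint (Submonoid.powers c : Set (B C)) (Q : Set (B C)) :=
    Set.disjoint_left.2 fun x ⟨k, hk⟩ hx => hhQ (‹Q.IsPrime›.mem_of_pow_mem k ((show c ^ k = x from hk).symm ▸ hx))
  haveI : Q'.IsPrime := IsLocalization.isPrime_of_isPrime_disjoint (Submonoid.powers c) Bh Q ‹_› hdis
  have hcm : Ideal.comap (algebraMap (B C) Bh) Q' = Q :=
    IsLocalization.under_map_of_isPrime_disjoint (Submonoid.powers c) Bh ‹_› hdis
  have hle : J.map (algebraMap A Bh) ≤ Q' := by
    refine Ideal.map_le_iff_le_comap.2 (hJ.le.trans ((Ideal.span_singleton_le_iff_mem _).2 ?_))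
    rw [Ideal.mem_comap, IsScalarTower.algebraMap_apply A (B C) Bh]
    exact Ideal.mem_map_of_mem _ hfQ
  haveI hflat : Module.Flat A (Localization.AtPrime Q') := by
    refine MiscFlat6.flat_localization_of_quotient_pow J Q' hle fun m => ?_
    cases m with
    | zero =>
      haveI : Subsingleton (A ⧸ J ^ 0) := Ideal.Quotient.subsingleton_iff.2 (by rw [pow_zero, Ideal.one_eq_top])
      haveI : Subsingleton ((A ⧸ J ^ 0) ⊗[A] Bh) := Module.subsingleton (A ⧸ J ^ 0) _
      exact Module.Flat.of_free
    | succ n =>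
      haveI := etale_localization C hJ hnzd h₁ h₂ n hh
      infer_instance
  haveI hunr : Algebra.IsUnramifiedAt A Q' := by
    refine MiscFlat6.isUnramifiedAt_of_quotient J Q' hle ?_
    have key : ∀ I : Ideal A, I = J → Algebra.Etale (A ⧸ I) ((A ⧸ I) ⊗[A] Bh) →
        Algebra.FormallyUnramified (A ⧸ J) ((A ⧸ J) ⊗[A] Bh) := by
      rintro _ rfl h
      infer_instance
    exact key _ (by rw [zero_add, pow_one]) (etale_localization C hJ hnzd h₁ h₂ 0 hh)
  haveI : Algebra.EssFiniteType A (Localization.AtPrime Q') := Algebra.EssFiniteType.comp A Bh _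
  haveI : Algebra.FormallyUnramified A (Localization.AtPrime Q') := hunr
  haveI : Algebra.FormallyEtale A (Localization.AtPrime Q') := Groth.Agent.WeilRes.formallyEtale_of_flat
  haveI h0 : IsLocalization.AtPrime (Localization.AtPrime Q') (Ideal.comap (algebraMap (B C) Bh) Q') :=
    IsLocalization.isLocalization_isLocalization_atPrime_isLocalization (Submonoid.powers c) (Localization.AtPrime Q') Q'
  haveI h1 : IsLocalization.AtPrime (Localization.AtPrime Q') Q := by
    have key : ∀ (P : Ideal (B C)) [P.IsPrime], IsLocalization.AtPrime (Localization.AtPrime Q') P → P = Q →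
        IsLocalization.AtPrime (Localization.AtPrime Q') Q := by
      rintro P _ hP rfl
      exact hP
    exact key _ h0 hcm
  exact Algebra.FormallyEtale.of_equiv
    ((IsLocalization.algEquiv Q.primeCompl (Localization.AtPrime Q) (Localization.AtPrime Q')).restrictScalars A).symm

end PurityLiftLib
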