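import Groth.Agent.PurityLiftLib.Sections

/-!
# A morphism to an affine scheme which is an isomorphism over a basic open
-/

set_option autoImplicit false
universe u

open CategoryTheory AlgebraicGeometry Opposite TopologicalSpace

noncomputable section

namespace PurityLiftLib

variable {Y : Scheme.{u}} [CompactSpace Y] [QuasiSeparatedSpace Y] {R : CommRingCat.{u}} (φ : R ⟶ Γ(Y, ⊤)) (r : R)

theorem appTop_toSpec (b : R) : (Y.toSpecΓ ≫ Spec.map φ).appTop ((Scheme.ΓSpecIso R).inv b) = φ b := by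
  rw [Scheme.Hom.comp_appTop]
  have := ConcreteCategory.congr_hom (Scheme.ΓSpecIso_inv_naturality φ) b
  refine (congrArg Y.toSpecΓ.appTop this.symm).trans ?_
  rw [Scheme.toSpecΓ_appTop]
  exact Iso.inv_hom_id_apply _ _

theorem preimage_basicOpen_toSpec :
    (Y.toSpecΓ ≫ Spec.map φ) ⁻¹ᵁ PrimeSpectrum.basicOpen r = Y.basicOpen (φ r) := by
  rw [← basicOpen_eq_of_affine, Scheme.Hom.preimage_basicOpen]
  exact congrArg Y.basicOpen (appTop_toSpec φ r)

theorem isIso_toSpec_restrict (ha : IsAffineOpen (Y.basicOpen (φ r))) (hinj : Function.Injective φ)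
    (hsurj : ∀ x : Γ(Y, ⊤), ∃ (k : ℕ) (b : R), φ b = φ r ^ k * x) :
    IsIso ((Y.toSpecΓ ≫ Spec.map φ) ∣_ PrimeSpectrum.basicOpen r) := by
  let w := Y.toSpecΓ ≫ Spec.map φ
  let r' : Γ(Spec R, ⊤) := (Scheme.ΓSpecIso R).inv r
  rw [← basicOpen_eq_of_affine]
  show IsIso (w ∣_ (Spec R).basicOpen r')
  let D := (Spec R).basicOpen r'
  have hD : w ⁻¹ᵁ D = Y.basicOpen (φ r) := by
    rw [show D = PrimeSpectrum.basicOpen r from basicOpen_eq_of_affine r, preimage_basicOpen_toSpec]
  let a := φ r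
  have hwr : w.appTop r' = a := appTop_toSpec φ r
  haveI := isLocalization_basicOpen_of_qcqs (U := (⊤ : (Spec R).Opens)) CompactSpace.isCompact_univ
    isQuasiSeparated_univ r'
  let ρ := (Spec R).presheaf.map (homOfLE (le_top : D ≤ ⊤)).op
  let ρ' := Y.presheaf.map (homOfLE (le_top : w ⁻¹ᵁ D ≤ ⊤)).op
  have hnat : ∀ y, w.app D (ρ y) = ρ' (w.appTop y) := fun y =>
    ConcreteCategory.congr_hom (w.naturality (homOfLE (le_top : D ≤ ⊤)).op) y
  have hu : IsUnit (ρ' a) := by
    rw [← hwr, ← hnat]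
    exact (RingedSpace.isUnit_res_basicOpen _ r').map (w.app D).hom
  have hΓ : Function.Bijective (Scheme.ΓSpecIso R).inv := ConcreteCategory.bijective_of_isIso _
  have hbij : Function.Bijective (w.app D) := by
    refine ⟨(injective_iff_map_eq_zero (w.app D).hom).2 fun z hz => ?_, fun t => ?_⟩
    · obtain ⟨⟨y, _, m, rfl⟩, hy⟩ := IsLocalization.surj (Submonoid.powers r') z
      obtain ⟨b, rfl⟩ := hΓ.2 y
      have hy' : z * ρ (r' ^ m) = ρ ((Scheme.ΓSpecIso R).inv b) := hy
      have h0 : ρ' (φ b) = 0 := by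
        rw [← appTop_toSpec φ b, ← hnat, ← hy', map_mul]
        show (w.app D) z * _ = 0
        rw [show (w.app D) z = 0 from hz, zero_mul]
      obtain ⟨l, hl⟩ := exists_pow_mul_res_eq_zero a (φ b) hD.ge h0
      have hb : r ^ l * b = 0 := hinj (by rw [map_mul, map_pow, map_zero]; exact hl)
      have h1 : ρ (r' ^ l) * ρ ((Scheme.ΓSpecIso R).inv b) = 0 := by
        rw [← map_mul, show r' ^ l * (Scheme.ΓSpecIso R).inv b = 0 from by
          rw [← map_pow, ← map_mul, hb, map_zero], map_zero]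
      have hur : IsUnit (ρ r') := RingedSpace.isUnit_res_basicOpen _ r'
      rw [← hy', ← mul_assoc, mul_comm _ z, map_pow, map_pow, mul_assoc, ← pow_add] at h1
      exact (hur.pow (l + m)).mul_left_eq_zero.1 h1
    · haveI := isLocalization_basicOpen_of_qcqs (U := (⊤ : Y.Opens)) CompactSpace.isCompact_univ
        isQuasiSeparated_univ a
      let e := Y.presheaf.map (eqToHom hD.symm).op
      obtain ⟨⟨x, _, m, rfl⟩, hx⟩ := IsLocalization.surj (Submonoid.powers a) (Y.presheaf.map (eqToHom hD.symm).op t)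
      obtain ⟨k, b, hb⟩ := hsurj x
      have hx' : Y.presheaf.map (eqToHom hD.symm).op t *
          Y.presheaf.map (homOfLE (le_top : Y.basicOpen a ≤ ⊤)).op (a ^ m) =
          Y.presheaf.map (homOfLE (le_top : Y.basicOpen a ≤ ⊤)).op x := hx
      have hx2 : t * ρ' (a ^ m) = ρ' x := by
        refine (ConcreteCategory.bijective_of_isIso (Y.presheaf.map (eqToHom hD.symm).op)).1 ?_
        rw [map_mul, ← CommRingCat.comp_apply (f := ρ'), ← CommRingCat.comp_apply (f := ρ'), ← Functor.map_comp]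
        exact hx'
      have hur : IsUnit (ρ r') := RingedSpace.isUnit_res_basicOpen _ r'
      obtain ⟨v, hv⟩ := hur.pow (k + m)
      refine ⟨ρ ((Scheme.ΓSpecIso R).inv b) * ↑v⁻¹, (hu.pow (k + m)).mul_right_cancel ?_⟩
      have hv' : ρ' a ^ (k + m) = w.app D v := by
        rw [hv, map_pow, hnat, hwr]
      rw [hv', ← map_mul, mul_assoc, Units.inv_mul, mul_one, hnat, appTop_toSpec, hb, ← hv', pow_add,
        map_mul, map_pow, ← hx2, map_pow]
      ring
  haveI : IsAffine (D : Scheme.{u}) := (isAffineOpen_top (Spec R)).basicOpen r'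
  haveI : IsAffine ((w ⁻¹ᵁ D : Y.Opens) : Scheme.{u}) := hD ▸ ha
  haveI : IsIso (w ∣_ D).appTop := by
    rw [morphismRestrict_appTop]
    have : IsIso (w.app D) := (ConcreteCategory.isIso_iff_bijective _).2 hbij
    have key : ∀ D' : (Spec R).Opens, D' = D → IsIso (w.app D') := by rintro _ rfl; exact this
    exact @IsIso.comp_isIso _ _ _ _ _ _ _ (key _ D.ι_image_top) (Functor.map_isIso Y.presheaf _)
  haveI : IsIso ((w ∣_ D) ≫ (D : Scheme.{u}).toSpecΓ) := by
    rw [Scheme.toSpecΓ_naturality]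
    infer_instance
  exact IsIso.of_isIso_comp_right _ (D : Scheme.{u}).toSpecΓ

end PurityLiftLib
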