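import Groth.Agent.PurityLiftLib.Alg
import Groth.Agent.PurityLiftLib.LocalIso

/-!
# The levels of the algebraization
-/

set_option autoImplicit false
set_option linter.style.haveILetI false

noncomputable section

universe u

open CategoryTheory CategoryTheory.Limits AlgebraicGeometry TopologicalSpace Opposite
open scoped TensorProduct

namespace PurityLiftLib

/-- An open immersion from isomorphisms over a cover of the range. -/
theorem isOpenImmersion_of_cover {X Y : Scheme.{u}} (w : X ⟶ Y) {ι : Type*} (D : ι → Y.Opens)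
    (hw : ∀ i, IsIso (w ∣_ D i)) (hr : ∀ x, ∃ i, w x ∈ D i) :
    IsOpenImmersion w ∧ Set.range w = ((⨆ i, D i : Y.Opens) : Set Y) := by
  let O : Y.Opens := ⨆ i, D i
  haveI : IsIso (w ∣_ O) := by
    refine IsZariskiLocalAtTarget.of_iSup_eq_top (P := MorphismProperty.isomorphisms Scheme) (fun i => O.ι ⁻¹ᵁ D i)
      (top_le_iff.1 fun x _ => ?_) fun i => ?_
    · obtain ⟨i, hi⟩ := Opens.mem_iSup.1 x.2
      exact Opens.mem_iSup.2 ⟨i, hi⟩
    · refine ((MorphismProperty.isomorphisms Scheme).arrow_mk_iso_iff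
        (morphismRestrictRestrict w O (O.ι ⁻¹ᵁ D i))).2 ?_
      have e : O.ι ''ᵁ (O.ι ⁻¹ᵁ D i) = D i := by
        rw [Scheme.Hom.image_preimage_eq_opensRange_inf, Scheme.Opens.opensRange_ι]
        exact inf_eq_right.2 (le_iSup D i)
      rw [e]
      exact hw i
  have htop : w ⁻¹ᵁ O = ⊤ := top_le_iff.1 fun x _ => Opens.mem_iSup.2 (hr x)
  haveI : Surjective (w ⁻¹ᵁ O).ι := ⟨fun x => ⟨⟨x, htop.ge trivial⟩, rfl⟩⟩
  haveI : IsIso (w ⁻¹ᵁ O).ι := (isIso_iff_isOpenImmersion_and_surjective _).mpr ⟨inferInstance, inferInstance⟩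
  have e : w = inv (w ⁻¹ᵁ O).ι ≫ (w ∣_ O) ≫ O.ι := by rw [morphismRestrict_ι, IsIso.inv_hom_id_assoc]
  refine ⟨by rw [e]; infer_instance, subset_antisymm ?_ fun y hy => ?_⟩
  · rintro _ ⟨x, rfl⟩
    exact Opens.mem_iSup.2 (hr x)
  · obtain ⟨z, hz⟩ := (w ∣_ O).surjective ⟨y, hy⟩
    refine ⟨(w ⁻¹ᵁ O).ι z, ?_⟩
    rw [← Scheme.Hom.comp_apply, ← morphismRestrict_ι, Scheme.Hom.comp_apply, hz]
    rfl

theorem range_fst_of {P A B C : Scheme.{u}} {fst : P ⟶ A} {snd : P ⟶ B} {f : A ⟶ C} {g : B ⟶ C}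
    (h : IsPullback fst snd f g) : Set.range fst = f ⁻¹' Set.range g := by
  rw [← h.isoPullback_hom_fst, ← Scheme.Pullback.range_fst f g, Scheme.Hom.comp_base, TopCat.coe_comp,
    Set.range_comp, Set.range_eq_univ.2 h.isoPullback.hom.surjective, Set.image_univ]

theorem eq_toSpec {Y : Scheme.{u}} {R : CommRingCat.{u}} (p : Y ⟶ Spec R) :
    p = Y.toSpecΓ ≫ Spec.map ((Scheme.ΓSpecIso R).inv ≫ p.appTop) := by
  rw [Spec.map_comp, ← Category.assoc, ← Scheme.toSpecΓ_naturality, Category.assoc]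
  have : (Spec R).toSpecΓ ≫ Spec.map (Scheme.ΓSpecIso R).inv = 𝟙 _ := by
    rw [← SpecMap_ΓSpecIso_hom, ← Spec.map_comp, Iso.inv_hom_id, Spec.map_id]
  rw [this, Category.comp_id]

variable {A : Type u} [CommRing A] {J 𝔞 : Ideal A} (C : Cov J 𝔞)

/-- The algebra of a level. -/
abbrev LB (n : ℕ) : Type u := (A ⧸ J ^ (n + 1)) ⊗[A] (B C)

/-- The comparison with functions. -/
def φL (n : ℕ) : LB C n →+* SY C n :=
  letI := (aY C n).toAlgebra
  (Algebra.TensorProduct.lift (R := A) (S := A)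
    (Ideal.Quotient.liftₐ (J ^ (n + 1)) (Algebra.ofId A (SY C n)) fun _ ha => toGlobal_eq_zero C n ha)
    ({ prj C n with commutes' := fun a => prj_algebraMap C n a } : B C →ₐ[A] SY C n)
    fun _ _ => Commute.all _ _).toRingHom

theorem φL_tmul (n : ℕ) (a : A) (b : B C) :
    φL C n (Ideal.Quotient.mk (J ^ (n + 1)) a ⊗ₜ b) = aY C n a * prj C n b := rfl

theorem φL_right (n : ℕ) (b : B C) : φL C n (1 ⊗ₜ b) = prj C n b := by
  rw [← map_one (Ideal.Quotient.mk (J ^ (n + 1))), φL_tmul, map_one, one_mul]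

theorem exists_eq_one_tmul (n : ℕ) (x : LB C n) : ∃ b : B C, x = 1 ⊗ₜ b := by
  induction x using TensorProduct.induction_on with
  | zero => exact ⟨0, (TensorProduct.tmul_zero _ _).symm⟩
  | tmul q b =>
    obtain ⟨a, rfl⟩ := Ideal.Quotient.mk_surjective q
    exact ⟨a • b, by rw [TensorProduct.tmul_smul, TensorProduct.smul_tmul', Algebra.smul_def, mul_one]; rfl⟩
  | add x y hx hy =>
    obtain ⟨b, rfl⟩ := hx
    obtain ⟨c, rfl⟩ := hy
    exact ⟨b + c, (TensorProduct.tmul_add _ _ _).symm⟩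

/-- The map to the level of the algebraization. -/
def wL (n : ℕ) : C.Y n ⟶ Spec (CommRingCat.of (LB C n)) :=
  (C.Y n).toSpecΓ ≫ Spec.map (CommRingCat.ofHom (φL C n))

/-- The level over its base. -/
abbrev πL (n : ℕ) : Spec (CommRingCat.of (LB C n)) ⟶ Spec (CommRingCat.of (A ⧸ J ^ (n + 1))) :=
  Spec.map (CommRingCat.ofHom Algebra.TensorProduct.includeLeftRingHom)

theorem wL_πL (n : ℕ) : wL C n ≫ πL C n = C.p n := by
  rw [eq_toSpec (C.p n), wL, Category.assoc, ← Spec.map_comp]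
  congr 2
  refine CommRingCat.hom_ext (Ideal.Quotient.ringHom_ext (RingHom.ext fun a => ?_))
  show φL C n (Ideal.Quotient.mk (J ^ (n + 1)) a ⊗ₜ 1) =
    (C.p n).appTop ((Scheme.ΓSpecIso (CommRingCat.of (A ⧸ J ^ (n + 1)))).inv (Ideal.Quotient.mk (J ^ (n + 1)) a))
  rw [← toGlobal_eq, φL_tmul, map_one, mul_one]
  rfl

variable [IsNoetherianRing A] {f : A} (hJ : J = Ideal.span ({f} : Set A)) (hnzd : f ∈ nonZeroDivisors A)
  [IsAdicComplete (Ideal.span ({f} : Set A)) A]
  (h₁ : Module.Finite A (LocCoh.H 𝔞 1 (A ⧸ Ideal.span ({f} : Set A))))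
  (h₂ : Module.Finite A (LocCoh.H 𝔞 2 (A ⧸ Ideal.span ({f} : Set A))))

include hJ hnzd h₁ h₂

theorem isPullback_wL (n : ℕ) :
    IsOpenImmersion (wL C n) ∧
    IsPullback (wL C n) (C.y n) (πL C n) (CohB1.thickToBase (LocCoh.puncturedOpen A 𝔞).ι J n) := by
  obtain ⟨-, hlev, hker, -⟩ := finite_and_levels C hJ hnzd h₁ h₂
  let j := (LocCoh.puncturedOpen A 𝔞).ι
  let t := CohB1.thickToBase j J n
  let Bh : 𝔞 → (Spec (CommRingCat.of (LB C n))).Opens := fun h =>
    PrimeSpectrum.basicOpen (Ideal.Quotient.mk (J ^ (n + 1)) h.1 ⊗ₜ (1 : B C))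
  have hφ : ∀ h : A, φL C n (Ideal.Quotient.mk (J ^ (n + 1)) h ⊗ₜ 1) = aY C n h := fun h => by
    rw [φL_tmul, map_one, mul_one]
  have hiso : ∀ h, IsIso (wL C n ∣_ Bh h) := fun h => by
    refine isIso_toSpec_restrict (CommRingCat.ofHom (φL C n)) _ ?_ ?_ fun x => ?_
    · show IsAffineOpen ((C.Y n).basicOpen (φL C n _))
      rw [hφ]
      exact isAffineOpen_aY C n h.2
    · refine (injective_iff_map_eq_zero (φL C n)).2 fun x hx => ?_
      obtain ⟨b, rfl⟩ := exists_eq_one_tmul C n x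
      rw [φL_right] at hx
      obtain ⟨b', rfl⟩ := hker n b hx
      rw [TensorProduct.tmul_smul, TensorProduct.smul_tmul', Algebra.smul_def, mul_one,
        Ideal.Quotient.algebraMap_eq, Ideal.Quotient.eq_zero_iff_mem.2 (by
          rw [hJ]; exact Ideal.pow_mem_pow (Ideal.mem_span_singleton_self f) _), TensorProduct.zero_tmul]
    · obtain ⟨k, b, hb⟩ := hlev h.1 h.2 n x
      refine ⟨k, (1 : A ⧸ J ^ (n + 1)) ⊗ₜ b, ?_⟩
      show φL C n _ = φL C n _ ^ k * x
      rw [φL_right, hφ]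
      exact hb
  have hmem : ∀ (x : Spec (CommRingCat.of (LB C n))) (h : 𝔞),
      x ∈ Bh h ↔ h.1 ∉ (CohB1.specQuot J n ((πL C n) x)).asIdeal := fun x h => Iff.rfl
  have hrange : Set.range t = CohB1.specQuot J n ⁻¹' (LocCoh.puncturedOpen A 𝔞 : Set _) := by
    show Set.range (pullback.snd j (CohB1.specQuot J n)) = _
    rw [Scheme.Pullback.range_snd, Scheme.Opens.range_ι]
  obtain ⟨ho, hr⟩ := isOpenImmersion_of_cover (wL C n) Bh hiso fun y => by
    have h0 : CohB1.specQuot J n ((C.p n) y) ∈ LocCoh.puncturedOpen A 𝔞 :=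
      hrange.le ⟨C.y n y, by rw [← Scheme.Hom.comp_apply]⟩
    obtain ⟨h, hh, hhy⟩ := Set.not_subset.1 h0
    exact ⟨⟨h, hh⟩, (hmem _ _).2 (by rw [← Scheme.Hom.comp_apply (wL C n), wL_πL]; exact hhy)⟩
  refine ⟨ho, ?_⟩
  haveI := ho
  haveI : IsOpenImmersion t := MorphismProperty.pullback_snd _ _ inferInstance
  refine (IsOpenImmersion.isPullback (C.y n) (wL C n) t (πL C n) (wL_πL C n) ?_).flip
  refine SetLike.coe_injective ?_
  show πL C n ⁻¹' Set.range t = Set.range (wL C n)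
  rw [hr, hrange]
  ext x
  constructor
  · intro hx
    obtain ⟨h, hh, hhx⟩ := Set.not_subset.1 (show (CohB1.specQuot J n ((πL C n) x)) ∈ LocCoh.puncturedOpen A 𝔞 from hx)
    exact Opens.mem_iSup.2 ⟨⟨h, hh⟩, (hmem _ _).2 hhx⟩
  · intro hx
    obtain ⟨h, hh⟩ := Opens.mem_iSup.1 hx
    exact fun hle => (hmem x h).1 hh (hle h.2)

attribute [local instance] Algebra.TensorProduct.rightAlgebra in
set_option maxHeartbeats 1000000 in
/-- The structure map of a level is étale on the punctured part. -/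
theorem etale_localization (n : ℕ) {h : A} (hh : h ∈ 𝔞) :
    Algebra.Etale (A ⧸ J ^ (n + 1))
      ((A ⧸ J ^ (n + 1)) ⊗[A] Localization.Away (algebraMap A (B C) h)) := by
  obtain ⟨ho, sq⟩ := isPullback_wL C hJ hnzd h₁ h₂ n
  haveI := ho
  haveI : IsOpenImmersion (CohB1.thickToBase (LocCoh.puncturedOpen A 𝔞).ι J n) :=
    MorphismProperty.pullback_snd _ _ inferInstance
  let R := A ⧸ J ^ (n + 1)
  let Bh := Localization.Away (algebraMap A (B C) h)
  let m : LB C n →+* R ⊗[A] Bh :=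
    (Algebra.TensorProduct.map (AlgHom.id R R) (IsScalarTower.toAlgHom A (B C) Bh)).toRingHom
  letI := m.toAlgebra
  haveI : IsScalarTower R (LB C n) (R ⊗[A] Bh) := .of_algebraMap_eq'
    (Algebra.TensorProduct.map (AlgHom.id R R) (IsScalarTower.toAlgHom A (B C) Bh)).comp_algebraMap.symm
  haveI : IsLocalization (Algebra.algebraMapSubmonoid (LB C n) (Submonoid.powers (algebraMap A (B C) h)))
      (R ⊗[A] Bh) :=
    IsLocalization.tensorProduct_tensorProduct_right A R (Submonoid.powers (algebraMap A (B C) h)) Bh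
      (by ext; simp [m, RingHom.algebraMap_toAlgebra])
  let e : LB C n := algebraMap (B C) (LB C n) (algebraMap A (B C) h)
  haveI : IsLocalization.Away e (R ⊗[A] Bh) := by
    show IsLocalization (Submonoid.powers e) _
    rw [show Submonoid.powers e = Algebra.algebraMapSubmonoid (LB C n) (Submonoid.powers (algebraMap A (B C) h)) from
      (Submonoid.map_powers _ _).symm]
    infer_instance
  let em := Spec.map (CommRingCat.ofHom (algebraMap (LB C n) (R ⊗[A] Bh)))
  haveI : IsOpenImmersion em := IsOpenImmersion.of_isLocalization e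
  have hrw : Set.range em ⊆ Set.range (wL C n) := by
    intro x hx
    have hx' : x ∈ PrimeSpectrum.basicOpen e :=
      (PrimeSpectrum.localization_away_comap_range (R ⊗[A] Bh) e).le hx
    rw [range_fst_of sq]
    show (πL C n) x ∈ Set.range (CohB1.thickToBase (LocCoh.puncturedOpen A 𝔞).ι J n)
    have hrange : Set.range (pullback.snd (LocCoh.puncturedOpen A 𝔞).ι (CohB1.specQuot J n)) =
        CohB1.specQuot J n ⁻¹' (LocCoh.puncturedOpen A 𝔞 : Set _) := by
      rw [Scheme.Pullback.range_snd, Scheme.Opens.range_ι]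
    refine hrange.ge ?_
    intro hle
    refine hx' ?_
    have h1 : (Ideal.Quotient.mk (J ^ (n + 1)) h ⊗ₜ (1 : B C) : LB C n) = e := by
      show _ = (1 : R) ⊗ₜ[A] algebraMap A (B C) h
      rw [Algebra.algebraMap_eq_smul_one h, TensorProduct.tmul_smul, TensorProduct.smul_tmul', Algebra.smul_def, mul_one]
      rfl
    rw [← h1]
    exact hle hh
  let l := IsOpenImmersion.lift (wL C n) em hrw
  have hl : l ≫ wL C n = em := IsOpenImmersion.lift_fac _ _ _
  haveI : IsOpenImmersion l := IsOpenImmersion.of_comp l (wL C n)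
  haveI : Etale (C.p n) := inferInstance
  have het : Etale (em ≫ πL C n) := by
    rw [← hl, Category.assoc, wL_πL]
    infer_instance
  rw [← Spec.map_comp] at het
  have h2 := (HasRingHomProperty.Spec_iff (P := @Etale)).1 het
  refine RingHom.etale_algebraMap.1 ?_
  convert! h2 using 1
  exact IsScalarTower.algebraMap_eq R (LB C n) (R ⊗[A] Bh)

end PurityLiftLib
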