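import Groth.Agent.FlatLib.QStalk
import Groth.Agent.PurityLiftLib.Cov
import Groth.Agent.S1688

/-!
# The functions on a finite étale cover are finite locally free
-/

set_option autoImplicit false
set_option linter.style.haveILetI false

noncomputable section

universe u

open CategoryTheory CategoryTheory.Limits AlgebraicGeometry TopologicalSpace Opposite

namespace PurityLiftLib

/-- Direct images of functions along an affine flat morphism are flat. -/
theorem isFlat_push {Y X : Scheme.{u}} (q : Y ⟶ X) [IsAffineHom q] [Flat q]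
    [Coh.IsQCoh ((Scheme.Modules.pushforward q).obj (Coh.structureModule Y))] :
    FlatMod.IsFlat ((Scheme.Modules.pushforward q).obj (Coh.structureModule Y)) := by
  intro x
  let M := (Scheme.Modules.pushforward q).obj (Coh.structureModule Y)
  obtain ⟨U, hU, hxU, -⟩ := exists_isAffineOpen_mem_and_subset (U := (⊤ : X.Opens)) (x := x) trivial
  have hfl : (q.app U).hom.Flat := by
    rw [Scheme.Hom.app_eq_appLE]
    exact HasRingHomProperty.appLE @Flat q inferInstance ⟨U, hU⟩ ⟨_, hU.preimage q⟩ le_rfl
  letI : Algebra Γ(X, U) Γ(Y, q ⁻¹ᵁ U) := (q.app U).hom.toAlgebra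
  have hflat : Module.Flat Γ(X, U) Γ(Y, q ⁻¹ᵁ U) := hfl
  let e : Γ(Y, q ⁻¹ᵁ U) ≃ₗ[Γ(X, U)] Γ(M, U) :=
    { toFun := fun t => t
      invFun := fun t => t
      map_add' := fun _ _ => rfl
      map_smul' := fun r t => (Algebra.smul_def r t).trans rfl
      left_inv := fun _ => rfl
      right_inv := fun _ => rfl }
  haveI : Module.Flat Γ(X, U) Γ(M, U) := Module.Flat.of_linearEquiv e.symm
  letI := Module.compHom (M.presheaf.stalk x) (X.presheaf.germ U x hxU).hom
  letI : Algebra Γ(X, U) (X.presheaf.stalk x) := (X.presheaf.germ U x hxU).hom.toAlgebra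
  haveI : IsScalarTower Γ(X, U) (X.presheaf.stalk x) (M.presheaf.stalk x) :=
    IsScalarTower.of_algebraMap_smul fun _ _ => rfl
  haveI : IsLocalization.AtPrime (X.presheaf.stalk x) (hU.primeIdealOf ⟨x, hxU⟩).asIdeal :=
    hU.isLocalization_stalk ⟨x, hxU⟩
  haveI := FlatLib.isLocalizedModule_germLin M hU hxU
  exact Module.Flat.isBaseChange Γ(X, U) (X.presheaf.stalk x) Γ(M, U) (M.presheaf.stalk x)
    (IsLocalizedModule.isBaseChange (hU.primeIdealOf ⟨x, hxU⟩).asIdeal.primeCompl (X.presheaf.stalk x)
      (FlatLib.germLin M hxU))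

/-- Direct images of functions along finite flat morphisms of noetherian schemes are locally free. -/
theorem isFinLocFree_push {Y X : Scheme.{u}} (q : Y ⟶ X) [IsFinite q] [Flat q] [IsLocallyNoetherian X]
    [AlgebraicGeometry.IsNoetherian Y] :
    FlatMod.IsFinLocFree ((Scheme.Modules.pushforward q).obj (Coh.structureModule Y)) := by
  have h : Coh.IsCoh ((Scheme.Modules.pushforward q).obj (Coh.structureModule Y)) :=
    QCohLib.isCoh_push_finite q _ (CurvLib.isCoh_of_isInvertible (AlgzLib.isInvertible_structureModule _))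
  haveI := h.1
  exact Groth.Agent.S1688.isFinLocFree_of_isFP_of_flat (QCohLib.isFP_of_isCoh _ h) (isFlat_push q)

end PurityLiftLib
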